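import Cfsg.Agent.H126.PwO.Asm
import Cfsg.Agent.H140.TC.Engine

/-!
# S2464, `Ω_(2n+1)(q)`, `q` odd: interface (helper781)

* `GF n N f` : `f` is a good polynomial: monic irreducible of degree `n`, prime to its reverse, dividing `X ^ N - 1`,
  of constant term `(-1) ^ n`.
* `TLf n f` : every nonscalar matrix of determinant `1` is a product of two matrices of characteristic polynomial `f`.
-/

set_option autoImplicit false

namespace Cfsg.Agent.H781.TC6

open Matrix Polynomial

/-- good polynomials -/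
structure GF {F : Type*} [Field F] (n N : ℕ) (f : F[X]) : Prop where
  monic : f.Monic
  irr : Irreducible f
  deg : f.natDegree = n
  cop : IsCoprime f f.reverse
  dvd : f ∣ Polynomial.X ^ N - 1
  c0 : (-1) ^ n * f.coeff 0 = 1
  /-- the exception of Theorem L does not occur -/
  ex : ∀ (X : Matrix (Fin n) (Fin n) F) (c : F), X.charpoly = f → (c • X⁻¹).charpoly ≠ f
  /-- the centraliser contains elements of nonsquare determinant -/
  nsq : ∀ X : Matrix (Fin n) (Fin n) F, X.charpoly = f →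
    ∃ Z : GL (Fin n) F, (Z : Matrix (Fin n) (Fin n) F) * X = X * (Z : Matrix (Fin n) (Fin n) F) ∧
      ¬ IsSquare (Z : Matrix (Fin n) (Fin n) F).det

/-- Theorem L for `f, f`, determinant `1` -/
def TLf {F : Type*} [Field F] (n : ℕ) (f : F[X]) : Prop :=
  ∀ A : Matrix (Fin n) (Fin n) F, A.det = 1 → (∀ c : F, A ≠ c • (1 : Matrix (Fin n) (Fin n) F)) →
    ∃ X Y : Matrix (Fin n) (Fin n) F, X * Y = A ∧ X.charpoly = f ∧ Y.charpoly = f

/-- Theorem L (general form: `f`, `g` irreducible) -/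
def TL (F : Type*) [Field F] (n : ℕ) : Prop :=
  ∀ (f g : F[X]), f.Monic → g.Monic → f.natDegree = n → g.natDegree = n → Irreducible f → Irreducible g →
    (∀ (X : Matrix (Fin n) (Fin n) F) (c : F), X.charpoly = f → (c • X⁻¹).charpoly ≠ g) →
    ∀ A : Matrix (Fin n) (Fin n) F, A.det = f.coeff 0 * g.coeff 0 → A.det ≠ 0 →
      (∀ c : F, A ≠ c • (1 : Matrix (Fin n) (Fin n) F)) →
      ∃ X Y : Matrix (Fin n) (Fin n) F, X * Y = A ∧ X.charpoly = f ∧ Y.charpoly = g

theorem TL.tlf {F : Type*} [Field F] {n N : ℕ} {f : F[X]} (h : TL F n) (hf : GF n N f) : TLf n f := by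
  intro A hA hns
  have h1 : ((-1 : F) ^ n) * (-1) ^ n = 1 := by rw [← mul_pow]; simp
  refine h f f hf.monic hf.monic hf.deg hf.deg hf.irr hf.irr hf.ex A ?_ (by rw [hA]; exact one_ne_zero) hns
  rw [hA]
  have h2 := hf.c0
  calc (1 : F) = ((-1) ^ n * f.coeff 0) * ((-1) ^ n * f.coeff 0) := by rw [h2, one_mul]
    _ = (((-1 : F) ^ n) * (-1) ^ n) * (f.coeff 0 * f.coeff 0) := by ring
    _ = f.coeff 0 * f.coeff 0 := by rw [h1, one_mul]

end Cfsg.Agent.H781.TC6
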