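import Cfsg.Agent.H781.TC6.Eng

/-!
# S2464, `Ω_(2n+1)(q)`, `q` odd (helper781)

* `six_odd_of` : `GF n N f → TLf n f → N.Coprime 6 →` two classes of order prime to `6` in `POmega F (quadFormOdd n F)`.
-/

set_option autoImplicit false
set_option linter.unusedSectionVars false

namespace Cfsg.Agent.H781.TC6

open Module QuadraticMap Matrix Polynomial Cfsg.Agent.LieClassical.OrthCore Cfsg.Agent.LieClassical.OrthTrans
  Cfsg.Agent.LieClassical.OrthFinite Cfsg.Agent.LieClassical.OrthForms Cfsg.Agent.H140.OreO Cfsg.Agent.H126.PwO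
  Cfsg.Agent.H962.PP Cfsg.Agent.H141.SpinFacts
open Cfsg.Agent.H434.Corn (MaxTS)
open Cfsg.Agent.H140.TC

/-- two classes of elements of order prime to `6` -/
def T6 (G : Type*) [Group G] : Prop :=
  ∃ x y : G, Nat.Coprime (orderOf x) 6 ∧ Nat.Coprime (orderOf y) 6 ∧
    ∀ g : G, g ≠ 1 → ∃ u v : G, g = (u * x * u⁻¹) * (v * y * v⁻¹)

theorem T6.of_equiv {G H : Type*} [Group G] [Group H] (e : G ≃* H) (h : T6 H) : T6 G := by
  obtain ⟨a, b, ha, hb, h⟩ := h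
  refine ⟨e.symm a, e.symm b, ?_, ?_, fun g hg => ?_⟩
  · rw [MulEquiv.orderOf_eq]; exact ha
  · rw [MulEquiv.orderOf_eq]; exact hb
  obtain ⟨u, v, e'⟩ := h (e g) (by
    intro h1
    exact hg (e.injective (by rw [h1, map_one])))
  refine ⟨e.symm u, e.symm v, ?_⟩
  apply e.injective
  rw [e']
  simp

/-- two fixed classes of order dividing `N` for isometries -/
def TwoN {F V : Type*} [Field F] [AddCommGroup V] [Module F V] (N : ℕ) (Q : QuadraticForm F V) : Prop :=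
  ∃ x₀ ∈ Om Q, ∃ y₀ ∈ Om Q, x₀ ^ N = 1 ∧ y₀ ^ N = 1 ∧ TwoOf Q x₀ y₀

theorem t6_of_two {ι : Type} [Fintype ι] [DecidableEq ι] {F : Type*} [Field F] {N : ℕ} (hN : N.Coprime 6)
    (Q : QuadraticForm F (ι → F)) (h : TwoN N Q) : T6 (Cfsg.POmega F ⇑Q) := by
  obtain ⟨x₀, hx₀, y₀, hy₀, hxN, hyN, h⟩ := h
  have ho : ∀ (x : (ι → F) ≃ₗ[F] (ι → F)) (hx : x ∈ Om Q), x ^ N = 1 →
      Nat.Coprime (orderOf (QuotientGroup.mk ((omegaEquiv Q).symm ⟨x, hx⟩) : Cfsg.POmega F ⇑Q)) 6 := by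
    intro x hx hxN
    apply Nat.Coprime.coprime_dvd_left _ hN
    apply orderOf_dvd_of_pow_eq_one
    have h1 : ((omegaEquiv Q).symm ⟨x, hx⟩) ^ N = 1 := by
      rw [← map_pow]
      have h2 : (⟨x, hx⟩ : Om Q) ^ N = 1 := Subtype.ext hxN
      rw [h2, map_one]
    rw [← QuotientGroup.mk_pow, h1]
    rfl
  refine ⟨QuotientGroup.mk ((omegaEquiv Q).symm ⟨x₀, hx₀⟩), QuotientGroup.mk ((omegaEquiv Q).symm ⟨y₀, hy₀⟩),
    ho _ hx₀ hxN, ho _ hy₀ hyN, fun g hg => ?_⟩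
  obtain ⟨g, rfl⟩ := QuotientGroup.mk_surjective g
  have hs : ∀ c : F, ∃ v, (omegaEquiv Q g : (ι → F) ≃ₗ[F] (ι → F)) v ≠ c • v := by
    by_contra hs
    push Not at hs
    obtain ⟨c, hc⟩ := hs
    apply hg
    have hcen : g ∈ Subgroup.center (Cfsg.Omega F ⇑Q) := by
      rw [Subgroup.mem_center_iff]
      intro k
      apply (omegaEquiv Q).injective
      rw [map_mul, map_mul]
      apply Subtype.ext
      apply LinearEquiv.ext
      intro v
      show (omegaEquiv Q k : (ι → F) ≃ₗ[F] (ι → F)) ((omegaEquiv Q g : (ι → F) ≃ₗ[F] (ι → F)) v) =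
        (omegaEquiv Q g : (ι → F) ≃ₗ[F] (ι → F)) ((omegaEquiv Q k : (ι → F) ≃ₗ[F] (ι → F)) v)
      rw [hc, hc, map_smul]
    exact (QuotientGroup.eq_one_iff g).2 hcen
  obtain ⟨u, hu, v, hv, e⟩ := h _ (omegaEquiv Q g).2 hs
  refine ⟨QuotientGroup.mk ((omegaEquiv Q).symm ⟨u, hu⟩), QuotientGroup.mk ((omegaEquiv Q).symm ⟨v, hv⟩), ?_⟩
  have e2 : g = ((omegaEquiv Q).symm ⟨u, hu⟩ * (omegaEquiv Q).symm ⟨x₀, hx₀⟩ * ((omegaEquiv Q).symm ⟨u, hu⟩)⁻¹) *
      ((omegaEquiv Q).symm ⟨v, hv⟩ * (omegaEquiv Q).symm ⟨y₀, hy₀⟩ * ((omegaEquiv Q).symm ⟨v, hv⟩)⁻¹) := by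
    apply (omegaEquiv Q).injective
    simp only [map_mul, map_inv, MulEquiv.apply_symm_apply]
    exact Subtype.ext e
  conv_lhs => rw [e2]
  rfl

section Fin

variable {F V : Type*} [Field F] [AddCommGroup V] [Module F V] {Q : QuadraticForm F V} [Finite F]
  [FiniteDimensional F V]

theorem twoN_odd (h2 : (2 : F) ≠ 0) (hQ : Nondeg Q) {m : ℕ} (hm : 3 ≤ m) (hdim : finrank F V = 2 * m + 1)
    (hW : ∀ W, MaxTS Q W → finrank F W = m) {N : ℕ} {f : F[X]} (hgf : GF m N f) (hTL : TLf m f) : TwoN N Q := by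
  by_cases h : ∃ g ∈ Om Q, ∀ c : F, ∃ v, g v ≠ c • v
  · obtain ⟨g, hg, hns⟩ := h
    obtain ⟨e, e', hf, -⟩ := nsCorner hQ hg hns hm hW
    have hf0 : f.coeff 0 ≠ 0 := by
      intro h0
      have := hgf.c0
      rw [h0, mul_zero] at this
      exact zero_ne_one this
    obtain ⟨B, hB⟩ := exists_matrix f hgf.monic hf0 hgf.deg
    have hc0 := hgf.c0
    have hBd : (B : Matrix (Fin m) (Fin m) F).det = 1 := det_of_charpoly hB hc0
    have hBN : B ^ N = 1 := pow_of_charpoly hB hgf.dvd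
    have he : ∀ v, MQ m (res Q e e') (hf.toModel v) = Q v := hf.MQ_toModel
    have hG : Good (MQ m (res Q e e')) := good_model hQ hm hf
    have hOm : lev B (1 : perp Q e e' ≃ₗ[F] perp Q e e') ∈ Om (MQ m (res Q e e')) :=
      lev_det_one_mem hG hBd
    have hOm' : (autE hf.toModel).symm (lev B (1 : perp Q e e' ≃ₗ[F] perp Q e e')) ∈ Om Q := by
      rw [← autE_mem_Om he, MulEquiv.apply_symm_apply]
      exact hOm
    have hpow : ((autE hf.toModel).symm (lev B (1 : perp Q e e' ≃ₗ[F] perp Q e e'))) ^ N = 1 := by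
      rw [← map_pow, lev_pow, hBN, one_pow, lev_one, map_one]
    exact ⟨_, hOm', _, hOm', hpow, hpow, twoOf_irr h2 hQ hm hdim hW hf hgf hTL hB⟩
  · exact ⟨1, one_mem _, 1, one_mem _, one_pow _, one_pow _, fun g hg hns => absurd ⟨g, hg, hns⟩ h⟩

end Fin

/-- **The row `Ω_(2n+1)(q)`, `q` odd, from a good polynomial and Theorem L.** -/
theorem t6_odd_of {F : Type*} [Field F] [Fintype F] (hodd : Odd (Fintype.card F)) {n N : ℕ} (hn : 3 ≤ n) {f : F[X]}
    (hN : N.Coprime 6) (hgf : GF n N f) (hTL : TLf n f) : T6 (Cfsg.POmega F (Cfsg.quadFormOdd n F)) := by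
  have h2 : (2 : F) ≠ 0 := by
    intro h0
    have : CharP F 2 := CharTwo.of_one_ne_zero_of_two_eq_zero one_ne_zero h0
    have h3 := (FiniteField.even_card_iff_char_two (F := F)).1 (ringChar.eq F 2)
    rw [Nat.odd_iff] at hodd
    omega
  have h4 : TwoN N (oddForm n F) := twoN_odd h2 (nondeg_oddForm n F h2) hn (by
    rw [Module.finrank_fintype_fun_eq_card]; simp; ring) (H295.War.witt_odd n) hgf hTL
  have h5 := t6_of_two hN (oddForm n F) h4
  rw [coe_oddForm] at h5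
  exact h5

end Cfsg.Agent.H781.TC6
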