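import Cfsg.Agent.H781.TC6.Def
import Cfsg.Agent.H140.TC.Fam

/-!
# S2464, `Ω_(2n+1)(q)`, `q` odd: the engine (helper781)

`x₀ = y₀ = lev (X₀, 1)`, `X₀` of irreducible characteristic polynomial.
-/

set_option autoImplicit false
set_option linter.unusedSectionVars false

namespace Cfsg.Agent.H781.TC6

open Module QuadraticMap Matrix Polynomial Cfsg.Agent.LieClassical.OrthCore Cfsg.Agent.LieClassical.OrthTrans
  Cfsg.Agent.LieClassical.OrthFinite Cfsg.Agent.H140.OreO Cfsg.Agent.H126.PwO Cfsg.Agent.H962.PP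
  Cfsg.Agent.H141.SpinFacts Cfsg.Agent.H160.QSpin
open Cfsg.Agent.H434.Corn (MaxTS)
open Cfsg.Agent.H140.TC

variable {F V : Type*} [Field F] [AddCommGroup V] [Module F V] {Q : QuadraticForm F V}

theorem neg_mem_O : (LinearEquiv.neg F : V ≃ₗ[F] V) ∈ O Q := by
  rw [mem_O]
  intro v
  simp

theorem det_neg_odd [FiniteDimensional F V] (h : Odd (finrank F V)) :
    LinearEquiv.det (LinearEquiv.neg F : V ≃ₗ[F] V) = -1 := by
  apply Units.ext
  rw [LinearEquiv.coe_det]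
  have h1 : ((LinearEquiv.neg F : V ≃ₗ[F] V) : V →ₗ[F] V) = (-1 : F) • LinearMap.id := by
    ext v
    simp
  rw [h1, LinearMap.det_smul, LinearMap.det_id, h.neg_one_pow]
  simp

theorem neg_comm (g : V ≃ₗ[F] V) : (LinearEquiv.neg F : V ≃ₗ[F] V) * g = g * LinearEquiv.neg F := by
  ext v
  simp [LinearEquiv.mul_apply]

section Model

variable {U : Type*} [AddCommGroup U] [Module F U] {q : QuadraticForm F U} {m : ℕ}

/-- the class of `lev X₀ 1` is invariant under the orthogonal group -/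
theorem conj_model [Finite F] [FiniteDimensional F U] (h2 : (2 : F) ≠ 0) (hq : Nondeg q) (hG : Good (MQ m q))
    (hdim : Odd (finrank F (M F U m))) {X₀ Z : GL (Fin m) F} (hZ : Z * X₀ = X₀ * Z)
    (hns : ¬ IsSquare (Z : Matrix (Fin m) (Fin m) F).det) {S : M F U m ≃ₗ[F] M F U m} (hS : S ∈ O (MQ m q)) :
    ∃ u ∈ Om (MQ m q), S * lev X₀ (1 : U ≃ₗ[F] U) * S⁻¹ = u * lev X₀ (1 : U ≃ₗ[F] U) * u⁻¹ := by
  have hfU : Finite U := Module.finite_of_finite F
  have hfM : Finite (M F U m) := inferInstance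
  have hx₀ : lev X₀ (1 : U ≃ₗ[F] U) ∈ O (MQ m q) := lev_mem (O _).one_mem
  have hz : lev Z (1 : U ≃ₗ[F] U) ∈ O (MQ m q) := lev_mem (O _).one_mem
  let C : Subgroup (O (MQ m q)) := Subgroup.centralizer {⟨lev X₀ 1, hx₀⟩}
  have hC : ∀ h : O (MQ m q), h ∈ C ↔ lev X₀ (1 : U ≃ₗ[F] U) * (h : M F U m ≃ₗ[F] M F U m) =
      (h : M F U m ≃ₗ[F] M F U m) * lev X₀ (1 : U ≃ₗ[F] U) := by
    intro h
    rw [Subgroup.mem_centralizer_singleton_iff]
    constructor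
    · intro h1
      exact (congrArg Subtype.val h1).symm
    · intro h1
      exact Subtype.ext h1.symm
  have hzC : (⟨lev Z 1, hz⟩ : O (MQ m q)) ∈ C := by
    rw [hC]
    show lev X₀ (1 : U ≃ₗ[F] U) * lev Z (1 : U ≃ₗ[F] U) = lev Z (1 : U ≃ₗ[F] U) * lev X₀ (1 : U ≃ₗ[F] U)
    rw [← lev_mul, ← lev_mul, hZ]
  have hnC : (⟨LinearEquiv.neg F, neg_mem_O⟩ : O (MQ m q)) ∈ C := by
    rw [hC]
    exact (neg_comm _).symm
  have hspz : spin (MQ m q) ⟨lev Z 1, hz⟩ = -1 := by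
    have h1 := spin_lev h2 hq Z (O q).one_mem
    have h3 : (⟨(1 : U ≃ₗ[F] U), (O q).one_mem⟩ : O q) = 1 := rfl
    rw [h3, map_one, mul_one] at h1
    rw [h1]
    rcases Int.units_eq_one_or (chi (Z : Matrix (Fin m) (Fin m) F).det) with h | h
    · exact absurd ((chi_eq_one_iff _).1 h) hns
    · exact h
  have key := pj_mem hG (C.map (pj (MQ m q))) (fun v hv => by
    -- `c ∈ C` with the determinant and spinor norm of the reflection
    have hex : ∃ c ∈ C, LinearEquiv.det (c : M F U m ≃ₗ[F] M F U m) = -1 ∧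
        spin (MQ m q) c = spin (MQ m q) (rO (MQ m q) v hv) := by
      rcases Int.units_eq_one_or (spin (MQ m q) ⟨LinearEquiv.neg F, neg_mem_O⟩ *
        spin (MQ m q) (rO (MQ m q) v hv)) with h | h
      · refine ⟨_, hnC, det_neg_odd hdim, ?_⟩
        have h5 : spin (MQ m q) (rO (MQ m q) v hv) * spin (MQ m q) (rO (MQ m q) v hv) = 1 := Int.units_mul_self _
        calc spin (MQ m q) ⟨LinearEquiv.neg F, neg_mem_O⟩ = (spin (MQ m q) ⟨LinearEquiv.neg F, neg_mem_O⟩ *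
            spin (MQ m q) (rO (MQ m q) v hv)) * spin (MQ m q) (rO (MQ m q) v hv) := by
              rw [mul_assoc, h5, mul_one]
          _ = _ := by rw [h, one_mul]
      · refine ⟨_, C.mul_mem hnC hzC, ?_, ?_⟩
        · show LinearEquiv.det ((LinearEquiv.neg F : M F U m ≃ₗ[F] M F U m) * lev Z 1) = -1
          rw [map_mul, det_neg_odd hdim, det_lev, map_one, mul_one]
        · have h5 : spin (MQ m q) (rO (MQ m q) v hv) * spin (MQ m q) (rO (MQ m q) v hv) = 1 := Int.units_mul_self _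
          rw [map_mul, hspz]
          calc spin (MQ m q) ⟨LinearEquiv.neg F, neg_mem_O⟩ * -1 = (spin (MQ m q) ⟨LinearEquiv.neg F, neg_mem_O⟩ *
              spin (MQ m q) (rO (MQ m q) v hv)) * spin (MQ m q) (rO (MQ m q) v hv) * -1 := by
                rw [mul_assoc (spin (MQ m q) ⟨LinearEquiv.neg F, neg_mem_O⟩), h5, mul_one]
            _ = _ := by rw [h]; simp
    obtain ⟨c, hcC, hcd, hcs⟩ := hex
    refine ⟨c, hcC, ?_⟩
    have h3 : pj (MQ m q) (c * (rO (MQ m q) v hv)) = 1 := by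
      rw [pj_eq_one_iff]
      have hmem : ((c * rO (MQ m q) v hv : O (MQ m q)) : M F U m ≃ₗ[F] M F U m) ∈ O (MQ m q) :=
        (c * rO (MQ m q) v hv).2
      apply mem_Om_of_odd h2 hG hmem
      · show LinearEquiv.det ((c : M F U m ≃ₗ[F] M F U m) * refl (MQ m q) v hv) = 1
        rw [map_mul, hcd, det_refl]
        simp
      · have h6 : (⟨((c * rO (MQ m q) v hv : O (MQ m q)) : M F U m ≃ₗ[F] M F U m), hmem⟩ : O (MQ m q)) =
            c * rO (MQ m q) v hv := rfl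
        rw [h6, map_mul, hcs]
        exact Int.units_mul_self _
    rw [map_mul] at h3
    have h4 := pj_rO_sq (Q := MQ m q) hv
    calc pj (MQ m q) c = pj (MQ m q) c * (pj (MQ m q) (rO (MQ m q) v hv) * pj (MQ m q) (rO (MQ m q) v hv)) := by
          rw [h4, mul_one]
      _ = (pj (MQ m q) c * pj (MQ m q) (rO (MQ m q) v hv)) * pj (MQ m q) (rO (MQ m q) v hv) := by rw [mul_assoc]
      _ = _ := by rw [h3, one_mul]) ⟨S, hS⟩
  obtain ⟨h, hhC, hh⟩ := key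
  have h1 : lev X₀ (1 : U ≃ₗ[F] U) * (h : M F U m ≃ₗ[F] M F U m) =
      (h : M F U m ≃ₗ[F] M F U m) * lev X₀ (1 : U ≃ₗ[F] U) := (hC h).1 hhC
  have h3 : pj (MQ m q) (⟨S, hS⟩ * h⁻¹) = 1 := by
    rw [map_mul, map_inv, hh, mul_inv_cancel]
  rw [pj_eq_one_iff] at h3
  refine ⟨S * (h : M F U m ≃ₗ[F] M F U m)⁻¹, h3, ?_⟩
  have h4 : (h : M F U m ≃ₗ[F] M F U m)⁻¹ * lev X₀ (1 : U ≃ₗ[F] U) * (h : M F U m ≃ₗ[F] M F U m) =
      lev X₀ (1 : U ≃ₗ[F] U) := by
    rw [mul_assoc, h1, ← mul_assoc, inv_mul_cancel, one_mul]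
  conv_lhs => rw [← h4]
  group

end Model

section Frame

variable [Finite F] [FiniteDimensional F V] {m : ℕ}

theorem conj_V (h2 : (2 : F) ≠ 0) (hQ : Nondeg Q) (hdim : finrank F V = 2 * m + 1) (hm : 2 ≤ m)
    {e e' : Fin m → V} (hf : Frame Q e e') {X₀ Z : GL (Fin m) F} (hZ : Z * X₀ = X₀ * Z)
    (hns : ¬ IsSquare (Z : Matrix (Fin m) (Fin m) F).det) {S : V ≃ₗ[F] V} (hS : S ∈ O Q) :
    ∃ u ∈ Om Q, S * (autE hf.toModel).symm (lev X₀ (1 : perp Q e e' ≃ₗ[F] perp Q e e')) * S⁻¹ =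
      u * (autE hf.toModel).symm (lev X₀ (1 : perp Q e e' ≃ₗ[F] perp Q e e')) * u⁻¹ := by
  have he : ∀ v, MQ m (res Q e e') (hf.toModel v) = Q v := hf.MQ_toModel
  have hq := hf.nondeg_res hQ
  have hfr : finrank F (M F (perp Q e e') m) = 2 * m + 1 := by rw [← hf.toModel.finrank_eq, hdim]
  have hG : Good (MQ m (res Q e e')) := good_of_finite (nondeg_MQ hq) (by omega)
  obtain ⟨u, hu, hue⟩ := conj_model h2 hq hG (by rw [hfr]; exact ⟨m, rfl⟩) hZ hns ((autE_mem_O he).2 hS)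
  refine ⟨(autE hf.toModel).symm u, ?_, ?_⟩
  · rw [← autE_mem_Om he, MulEquiv.apply_symm_apply]
    exact hu
  · apply (autE hf.toModel).injective
    simp only [map_mul, map_inv, MulEquiv.apply_symm_apply]
    exact hue

theorem copP_irr {U : Type*} [AddCommGroup U] [Module F U] {N : ℕ} {f : F[X]} (hm : 3 ≤ m) (hgf : GF m N f) :
    CopP m f (1 : U ≃ₗ[F] U) := by
  have hr : RP m f := ⟨hgf.monic, hgf.irr, hgf.deg, hgf.cop⟩
  have h0 := hr.coeff_ne (by omega)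
  refine copP_of_cop (un_one (hr.eval_ne (by omega) 1)) (un_one ?_) hgf.cop
  exact eval_ne_zero (irreducible_rev hgf.irr h0) (by rw [natDegree_rev h0, hgf.deg]; omega) 1

/-- **The engine.** -/
theorem twoOf_irr (h2 : (2 : F) ≠ 0) (hQ : Nondeg Q) (hm : 3 ≤ m) (hdim : finrank F V = 2 * m + 1)
    (hW : ∀ W, MaxTS Q W → finrank F W = m) {e e' : Fin m → V} (hf : Frame Q e e') {N : ℕ} {f : F[X]}
    (hgf : GF m N f) (hTL : TLf m f) {X₀ : GL (Fin m) F} (hX₀ : (X₀ : Matrix (Fin m) (Fin m) F).charpoly = f) :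
    TwoOf Q ((autE hf.toModel).symm (lev X₀ 1)) ((autE hf.toModel).symm (lev X₀ 1)) := by
  intro g hg hns
  have hG : Good Q := good_of_finite hQ (by omega)
  have he : ∀ v, MQ m (res Q e e') (hf.toModel v) = Q v := hf.MQ_toModel
  obtain ⟨w, w', hfw, hS, hAdet, hA⟩ := nsCorner hQ hg hns (by omega) hW
  obtain ⟨T, hT, hTl, hTr⟩ := frame_trans hQ hf hfw
  obtain ⟨g', hg'⟩ : ∃ g', g' = T⁻¹ * g * T := ⟨_, rfl⟩
  have hTi : ∀ v v', T⁻¹ v = v' ↔ v = T v' := fun v v' => LinearEquiv.symm_apply_eq T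
  have hg'a : ∀ v, T (g' v) = g (T v) := by
    intro v
    rw [hg']
    exact T.apply_symm_apply _
  have hgO : g ∈ O Q := Om_le hg
  have hg'O : g' ∈ O Q := by
    rw [hg']
    exact (O Q).mul_mem ((O Q).mul_mem ((O Q).inv_mem hT) hgO) hT
  have hcor : corner Q g' e e' = corner Q g w w' := by
    ext i j
    rw [corner_apply, corner_apply, ← polar_map hT, hg'a, hTl, hTr]
  have hS' : SchurOne Q g' e e' := by
    intro v hv
    have hTv : T v ∈ perp Q w w' := by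
      intro i
      rw [← hTl, ← hTr, polar_map hT, polar_map hT]
      exact hv i
    obtain ⟨c, d, hcd⟩ := hS (T v) hTv
    refine ⟨c, d, ?_⟩
    apply T.injective
    have e1 : T (v + ∑ i, c i • e i) = T v + ∑ i, c i • w i := by
      rw [map_add, map_sum]
      simp only [map_smul, hTl]
    have e2 : T (v + ∑ i, d i • e' i) = T v + ∑ i, d i • w' i := by
      rw [map_add, map_sum]
      simp only [map_smul, hTr]
    rw [hg'a, e1, e2, hcd]
  have hAne : (corner Q g w w').det ≠ 0 := by rw [hAdet]; exact one_ne_zero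
  obtain ⟨A, hAe⟩ : ∃ A : GL (Fin m) F, (A : Matrix _ _ F) = corner Q g w w' :=
    ⟨Matrix.GeneralLinearGroup.mkOfDetNeZero _ hAne, rfl⟩
  obtain ⟨u₁, hu₁, g₁, hg₁, u₂, hu₂, edec⟩ := decomp ((autE_mem_O he).2 hg'O) A (fun a => by
    rw [corner_model, hcor, hAe])
  have h1 : g₁ = 1 := by
    apply LinearEquiv.ext
    intro v
    obtain ⟨c, d, hcd⟩ := schur_model hf hS' v
    exact schur_one_of hu₁ hu₂ edec hcd
  -- the factorisation of the corner
  obtain ⟨X, Y, hXY, hX, hY⟩ := hTL (corner Q g w w') hAdet hA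
  have hcyc : ∀ {Z : Matrix (Fin m) (Fin m) F}, Z.charpoly = f → Cyc Z := fun {Z} hZ =>
    cyc_of_irr (by omega) (by rw [hZ]; exact hgf.irr)
  obtain ⟨P, hP, hPX⟩ := conj_of_cyc (hcyc hX₀) (hcyc hX) (by rw [hX₀, hX])
  obtain ⟨R, hR, hRY⟩ := conj_of_cyc (hcyc hX₀) (hcyc hY) (by rw [hX₀, hY])
  obtain ⟨P', hP'⟩ : ∃ P' : GL (Fin m) F, (P' : Matrix _ _ F) = P :=
    ⟨Matrix.GeneralLinearGroup.mkOfDetNeZero P hP.ne_zero, rfl⟩
  obtain ⟨R', hR'⟩ : ∃ R' : GL (Fin m) F, (R' : Matrix _ _ F) = R :=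
    ⟨Matrix.GeneralLinearGroup.mkOfDetNeZero R hR.ne_zero, rfl⟩
  have hPi : ((P'⁻¹ : GL (Fin m) F) : Matrix _ _ F) = P⁻¹ := by
    rw [Matrix.coe_units_inv, hP']
  have hRi : ((R'⁻¹ : GL (Fin m) F) : Matrix _ _ F) = R⁻¹ := by
    rw [Matrix.coe_units_inv, hR']
  have hcP : ((P' * X₀ * P'⁻¹ : GL (Fin m) F) : Matrix (Fin m) (Fin m) F) = X := by
    simp only [Units.val_mul]
    rw [hPi, hP', ← hPX]
  have hcR : ((R' * X₀ * R'⁻¹ : GL (Fin m) F) : Matrix (Fin m) (Fin m) F) = Y := by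
    simp only [Units.val_mul]
    rw [hRi, hR', ← hRY]
  have hAXY : A = (P' * X₀ * P'⁻¹) * (R' * X₀ * R'⁻¹) := by
    apply Units.ext
    rw [Units.val_mul, hcP, hcR, hXY, hAe]
  have hXx : Cop (P' * X₀ * P'⁻¹) (1 : perp Q e e' ≃ₗ[F] perp Q e e') :=
    copP_irr hm hgf _ (by rw [hcP, hX])
  have hYy : Cop (R' * X₀ * R'⁻¹) (1 : perp Q e e' ≃ₗ[F] perp Q e e') :=
    copP_irr hm hgf _ (by rw [hcR, hY])
  obtain ⟨v₁, hv₁, v₂, hv₂, e2⟩ := stepPr hu₁ hu₂ hAXY (g₁ := g₁) (x := 1) (y := 1) (by rw [h1, mul_one])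
    (O _).one_mem (O _).one_mem hXx hYy
  rw [← edec] at e2
  have e3 : ∀ (Z W : GL (Fin m) F),
      lev (Z * W * Z⁻¹) (1 : perp Q e e' ≃ₗ[F] perp Q e e') =
        lev Z (1 : perp Q e e' ≃ₗ[F] perp Q e e') * lev W (1 : perp Q e e' ≃ₗ[F] perp Q e e') *
          (lev Z (1 : perp Q e e' ≃ₗ[F] perp Q e e'))⁻¹ := by
    intro Z W
    rw [← lev_inv, ← lev_mul, ← lev_mul, one_mul, inv_one, mul_one]
  rw [e3, e3] at e2
  have back : ∀ s ∈ Om (MQ m (res Q e e')), (autE hf.toModel).symm s ∈ O Q := by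
    intro s hs
    rw [← autE_mem_O he, MulEquiv.apply_symm_apply]
    exact Om_le hs
  have backL : ∀ Z : GL (Fin m) F, (autE hf.toModel).symm (lev Z (1 : perp Q e e' ≃ₗ[F] perp Q e e')) ∈ O Q := by
    intro Z
    rw [← autE_mem_O he, MulEquiv.apply_symm_apply]
    exact lev_mem (O _).one_mem
  obtain ⟨s₁, hs₁⟩ : ∃ s, s = T * (autE hf.toModel).symm v₁ * (autE hf.toModel).symm (lev P' 1) := ⟨_, rfl⟩
  obtain ⟨s₂, hs₂⟩ : ∃ s, s = T * (autE hf.toModel).symm v₂ * (autE hf.toModel).symm (lev R' 1) := ⟨_, rfl⟩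
  have hs₁O : s₁ ∈ O Q := by
    rw [hs₁]
    exact (O Q).mul_mem ((O Q).mul_mem hT (back _ hv₁)) (backL _)
  have hs₂O : s₂ ∈ O Q := by
    rw [hs₂]
    exact (O Q).mul_mem ((O Q).mul_mem hT (back _ hv₂)) (backL _)
  have e4 : g = (s₁ * (autE hf.toModel).symm (lev X₀ 1) * s₁⁻¹) *
      (s₂ * (autE hf.toModel).symm (lev X₀ 1) * s₂⁻¹) := by
    have e5 : g' = (autE hf.toModel).symm (v₁ * (lev P' 1 * lev X₀ 1 * (lev P' 1)⁻¹) * v₁⁻¹ *
        (v₂ * (lev R' 1 * lev X₀ 1 * (lev R' 1)⁻¹) * v₂⁻¹)) := by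
      rw [← e2, MulEquiv.symm_apply_apply]
    have e6 : g = T * g' * T⁻¹ := by rw [hg']; group
    rw [e6, e5, hs₁, hs₂]
    simp only [map_mul, map_inv]
    group
  obtain ⟨Z, hZ, hZs⟩ := hgf.nsq _ hX₀
  have hZ' : Z * X₀ = X₀ * Z := Units.ext hZ
  obtain ⟨u, hu, eu⟩ := conj_V h2 hQ hdim (by omega) hf hZ' hZs hs₁O
  obtain ⟨v, hv, ev⟩ := conj_V h2 hQ hdim (by omega) hf hZ' hZs hs₂O
  exact ⟨u, hu, v, hv, by rw [e4, eu, ev]⟩

end Frame

end Cfsg.Agent.H781.TC6
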